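import Groth.Agent.EtModInjLib.PairInd
import Groth.Agent.AicVanishLib.Affine
import Groth.Agent.EtContLib.PullSys
import Groth.Agent.CdCurveLib.PushPt
import Groth.Agent.S0642
import Groth.Agent.S2051
import Groth.Agent.S1958

/-!
# Čech acyclic torsion sheaves restricted to closed subschemes of affine étale objects
-/

set_option autoImplicit false
set_option linter.unusedSectionVars false
set_option linter.style.haveILetI false
set_option backward.isDefEq.respectTransparency false
set_option backward.isDefEq.respectTransparency.types false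
set_option maxHeartbeats 1000000
set_option synthInstance.maxHeartbeats 400000

universe u

open CategoryTheory CategoryTheory.Limits CategoryTheory.Abelian AlgebraicGeometry Opposite
open Groth.Agent Groth.Agent.EtShLib HenselBranchLib

noncomputable section

namespace EtModInjLib

attribute [local instance] EtSliceLib.pullExact

theorem subsingleton_H_of_sheafIso {Y : Scheme.{u}} {G G' : EtCoh.Ab Y} (e : G ≅ G') (n : ℕ)
    (h : Subsingleton (EtCoh.H Y G n)) : Subsingleton (EtCoh.H Y G' n) := by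
  refine ⟨fun a b => ?_⟩
  have key : ∀ c : EtCoh.H Y G' n,
      c = (c.comp (Ext.mk₀ e.inv) (add_zero n)).comp (Ext.mk₀ e.hom) (add_zero n) := fun c => by
    rw [Ext.comp_assoc_of_second_deg_zero, Ext.mk₀_comp_mk₀, e.inv_hom_id, Ext.comp_mk₀_id]
  rw [key a, key b, Subsingleton.elim (α := EtCoh.H Y G n) (Ext.comp a (Ext.mk₀ e.inv) (add_zero n))
    (Ext.comp b (Ext.mk₀ e.inv) (add_zero n))]

theorem subsingleton_H_pullObj {X : Scheme.{u}} (F : EtCoh.Ab X) (hF : CechAcyclicQ F) (W : X.Etale)
    (hW : W ∈ qcqsObj X) (p : ℕ) : Subsingleton (EtCoh.H W.left ((EtCoh.pull W.hom).obj F) (p + 1)) := by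
  obtain ⟨R⟩ : Nonempty (SectRep (EtSliceLib.free W) W) := ⟨
    { e := fun G =>
        { toFun := fun a => a.hom.app (op W) (EtSliceLib.gen W)
          invFun := fun s => EtSliceLib.desc W s
          left_inv := fun a => EtSliceLib.free_hom_ext W (EtSliceLib.desc_gen W _)
          right_inv := fun s => EtSliceLib.desc_gen W s
          map_add' := fun a b => rfl }
      nat := fun {G G'} a f => rfl }⟩
  haveI := subsingleton_ext_cechAcyclicQ R hW p F hF
  exact ⟨fun a b => by
    obtain ⟨a', rfl⟩ := (EtSliceLib.psi_bijective W (p + 1) F).2 a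
    obtain ⟨b', rfl⟩ := (EtSliceLib.psi_bijective W (p + 1) F).2 b
    rw [Subsingleton.elim a' b']⟩

variable {X : Scheme.{u}} {A : Type u} [CommRing A] (t : Spec (CommRingCat.of A) ⟶ X) [Etale t]

theorem subsingleton_H_hens (F : EtCoh.Ab X) (hF : CechAcyclicQ F) {I : Ideal A} {B : Type u} [CommRing B] [Algebra A B]
    (hB : Hens2.IsPairHenselization A I B) (p : ℕ) :
    Subsingleton (EtCoh.H (Spec (CommRingCat.of B))
      ((EtCoh.pull (Spec.map (CommRingCat.ofHom (algebraMap A B)) ≫ t)).obj F) (p + 1)) := by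
  haveI := Groth.Agent.IndEtQuotLib.isFiltered_etObj (A := A) (Cb := B)
  obtain ⟨hc⟩ := exists_etColimit hB
  let D : (EtObj A B)ᵒᵖ ⥤ Scheme.{u} := (etDiag A B).op ⋙ Scheme.Spec
  let c : Cone D := Scheme.Spec.mapCone (etCocone A B).op
  have hlim : IsLimit c := isLimitOfPreserves Scheme.Spec hc.op
  haveI : ∀ i, IsAffine (D.obj i) := fun i => inferInstanceAs (IsAffine (Spec _))
  haveI : ∀ (i j : (EtObj A B)ᵒᵖ) (f : i ⟶ j), IsAffineHom (D.map f) := fun i j f => isAffineHom_of_isAffine _
  let τ : D ⟶ (Functor.const _).obj X :=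
    { app := fun i => Spec.map (CommRingCat.ofHom (algebraMap A i.unop.U)) ≫ t
      naturality := fun i j f => by
        show Spec.map _ ≫ Spec.map _ ≫ t = (Spec.map _ ≫ t) ≫ 𝟙 _
        rw [Category.comp_id, ← Category.assoc, ← Spec.map_comp]
        refine congrArg (fun r => Spec.map r ≫ t) (CommRingCat.hom_ext (RingHom.ext fun a => ?_))
        exact f.unop.1.commutes a }
  let f₀ := Spec.map (CommRingCat.ofHom (algebraMap A B)) ≫ t
  have w : ∀ i, c.π.app i ≫ τ.app i = f₀ := fun i => by
    show Spec.map _ ≫ Spec.map _ ≫ t = Spec.map _ ≫ t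
    rw [← Category.assoc, ← Spec.map_comp]
    exact congrArg (fun r => Spec.map r ≫ t) (CommRingCat.hom_ext (RingHom.ext fun a => i.unop.hom.commutes a))
  refine ⟨fun a b => ?_⟩
  suffices h : ∀ ξ : EtCoh.H c.pt ((EtCoh.pull f₀).obj F) (p + 1), ξ = 0 from (h a).trans (h b).symm
  intro ξ
  obtain ⟨i, x, hx⟩ := (EtContLib.pullPre F τ).surjective ((EtCoh.pull f₀).obj F)
    (EtContLib.pullPsi F τ c f₀ w) (fun {j k} h => EtContLib.pullPsi_compat F τ c f₀ w h) hlim
    (EtContLib.isLim_pullPre F τ c f₀ w) (p + 1) ξ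
  haveI := i.unop.etale_U
  haveI : Etale (Spec.map (CommRingCat.ofHom (algebraMap A i.unop.U))) :=
    (HasRingHomProperty.Spec_iff (P := @Etale)).2 (RingHom.etale_algebraMap.2 i.unop.etale_U)
  let W : X.Etale := MorphismProperty.Over.mk ⊤ (τ.app i)
    (inferInstanceAs (Etale (Spec.map (CommRingCat.ofHom (algebraMap A i.unop.U)) ≫ t)))
  haveI : IsAffine W.left := inferInstanceAs (IsAffine (D.obj i))
  haveI : Subsingleton (EtCoh.H (D.obj i) ((EtCoh.pull (τ.app i)).obj F) (p + 1)) :=
    subsingleton_H_pullObj F hF W mem_qcqsObj_of_isAffine p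
  have : x = 0 := Subsingleton.elim (α := EtCoh.H (D.obj i) ((EtCoh.pull (τ.app i)).obj F) (p + 1)) _ _
  rw [← hx, this, map_zero]

/-- Vanishing on a closed subscheme of an affine étale object. -/
theorem subsingleton_H_closed (F : EtCoh.Ab X) (hF : CechAcyclicQ F) (hT : EtCoh.IsTorsion F) (I : Ideal A) (p : ℕ) :
    Subsingleton (EtCoh.H (Spec (CommRingCat.of (A ⧸ I)))
      ((EtCoh.pull (Spec.map (CommRingCat.ofHom (Ideal.Quotient.mk I)) ≫ t)).obj F) (p + 1)) := by
  obtain ⟨B, _, _, hB⟩ := Groth.Agent.S2051.result A I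
  haveI : HenselianRing B (I.map (algebraMap A B)) := hB.1
  let J := I.map (algebraMap A B)
  let i := Spec.map (CommRingCat.ofHom (Ideal.Quotient.mk J))
  let F' := (EtCoh.pull (Spec.map (CommRingCat.ofHom (algebraMap A B)) ≫ t)).obj F
  haveI : IsClosedImmersion i := IsClosedImmersion.spec_of_surjective _ Ideal.Quotient.mk_surjective
  have hg := AicVanishLib.gabber_affine B J F' (CdCurveLib.isTorsion_pull_map _ hT) (p + 1)
  have h1 : Subsingleton (EtCoh.H (Spec (CommRingCat.of B)) ((EtCoh.push i).obj ((EtCoh.pull i).obj F')) (p + 1)) :=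
    @Function.Surjective.subsingleton _ _ _ (subsingleton_H_hens t F hF hB p) hg.2
  have h2 : Subsingleton (EtCoh.H (Spec (CommRingCat.of (B ⧸ J))) ((EtCoh.pull i).obj F') (p + 1)) :=
    haveI := h1; (AicVanishLib.bijective_mu_integral (p := i) ((EtCoh.pull i).obj F') (p + 1)).2.subsingleton
  have hq := (Groth.Agent.S1958.result A I B hB).2 1
  rw [pow_one] at hq
  let φ := CommRingCat.ofHom (Ideal.quotientMap J (algebraMap A B) Ideal.le_comap_map : A ⧸ I →+* B ⧸ J)
  haveI : IsIso φ := (ConcreteCategory.isIso_iff_bijective φ).2 hq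
  let e := Spec.map φ
  have hcomm : e ≫ Spec.map (CommRingCat.ofHom (Ideal.Quotient.mk I)) =
      i ≫ Spec.map (CommRingCat.ofHom (algebraMap A B)) := by
    rw [← Spec.map_comp, ← Spec.map_comp]
    refine congrArg Spec.map (CommRingCat.hom_ext (RingHom.ext fun a => ?_))
    exact Ideal.quotientMap_mk (f := algebraMap A B) (H := Ideal.le_comap_map) (x := a)
  have hc' : e ≫ Spec.map (CommRingCat.ofHom (Ideal.Quotient.mk I)) ≫ t =
      i ≫ Spec.map (CommRingCat.ofHom (algebraMap A B)) ≫ t := by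
    rw [← Category.assoc, hcomm, Category.assoc]
  let G := (EtCoh.pull (Spec.map (CommRingCat.ofHom (Ideal.Quotient.mk I)) ≫ t)).obj F
  have iso : (EtCoh.pull i).obj F' ≅ (EtCoh.pull e).obj G :=
    (((EtCore.pullComp i (Spec.map (CommRingCat.ofHom (algebraMap A B)) ≫ t)).app F).symm ≪≫
      (EtCore.pullCongr hc'.symm).app F) ≪≫
      (EtCore.pullComp e (Spec.map (CommRingCat.ofHom (Ideal.Quotient.mk I)) ≫ t)).app F
  haveI := subsingleton_H_of_sheafIso iso (p + 1) h2
  exact (Groth.Agent.S0642.result e G (p + 1)).1.subsingleton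

end EtModInjLib
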