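import Groth.Agent.EpsLib.SingleCech
import Mathlib.Algebra.Category.ModuleCat.Presheaf.Free
import Mathlib.Algebra.Category.ModuleCat.Presheaf.Abelian
import Mathlib.CategoryTheory.Preadditive.Injective.Basic

/-! An injective presheaf of modules has exact Čech complexes. -/

set_option autoImplicit false
set_option linter.style.haveILetI false
set_option backward.isDefEq.respectTransparency false
set_option backward.isDefEq.respectTransparency.types false
universe u

open CategoryTheory CategoryTheory.Limits Opposite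

noncomputable section

namespace EtModInjLib

open Groth.Agent.EpsLib

variable {C : Type (u + 1)} [Category.{u} C] {R : Cᵒᵖ ⥤ RingCat.{u + 1}}
variable {W' W : C} {π : W' ⟶ W} (N : Nerve π)

variable (R) in
/-- The free presheaf of modules on a power. -/
abbrev F (n : ℕ) : PresheafOfModules.{u + 1} R :=
  PresheafOfModules.freeObj (uliftYoneda.{u + 1}.obj (N.obj n))

variable (R) in
/-- A generator. -/
def mgen {n : ℕ} {V : C} (x : V ⟶ N.obj n) : (F R N n).obj (op V) :=
  ModuleCat.freeMk (ULift.up x)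

theorem map_mgen {n : ℕ} {V V' : C} (g : V' ⟶ V) (x : V ⟶ N.obj n) :
    (F R N n).presheaf.map g.op (mgen R N x) = mgen R N (g ≫ x) :=
  ModuleCat.freeDesc_apply _ _

/-- A natural family of values on generators. -/
def desc {n : ℕ} {G : PresheafOfModules.{u + 1} R} (v : ∀ V : C, (V ⟶ N.obj n) → G.presheaf.obj (op V))
    (hv : ∀ {V V' : C} (g : V' ⟶ V) (x : V ⟶ N.obj n), G.presheaf.map g.op (v V x) = v V' (g ≫ x)) :
    F R N n ⟶ G :=
  PresheafOfModules.freeObjDesc
    { app := fun V => ↾fun x => v V.unop x.down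
      naturality := fun V V' g => by
        ext x
        exact (hv g.unop x.down).symm }

theorem desc_mgen {n : ℕ} {G : PresheafOfModules.{u + 1} R} (v : ∀ V : C, (V ⟶ N.obj n) → G.presheaf.obj (op V))
    (hv : ∀ {V V' : C} (g : V' ⟶ V) (x : V ⟶ N.obj n), G.presheaf.map g.op (v V x) = v V' (g ≫ x))
    {V : C} (x : V ⟶ N.obj n) : (desc N v hv).app (op V) (mgen R N x) = v V x :=
  ModuleCat.freeDesc_apply _ _

theorem bdVal_nat (n : ℕ) {V V' : C} (g : V' ⟶ V) (x : V ⟶ N.obj (n + 1)) :
    (F R N n).presheaf.map g.op (∑ i : Fin (n + 2), ((-1 : ℤ) ^ (i : ℕ)) • mgen R N (x ≫ N.face n i) :) =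
      (∑ i : Fin (n + 2), ((-1 : ℤ) ^ (i : ℕ)) • mgen R N ((g ≫ x) ≫ N.face n i) :) := by
  refine (map_sum ((F R N n).presheaf.map g.op).hom _ _).trans (Finset.sum_congr rfl fun i _ => ?_)
  refine (map_zsmul ((F R N n).presheaf.map g.op).hom _ _).trans ?_
  refine congrArg _ ((map_mgen N g (x ≫ N.face n i)).trans ?_)
  rw [Category.assoc]

/-- The boundary of the free modules. -/
def mbd (n : ℕ) : F R N (n + 1) ⟶ F R N n :=
  desc N (fun V x => (∑ i : Fin (n + 2), ((-1 : ℤ) ^ (i : ℕ)) • mgen R N (x ≫ N.face n i) :))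
    (bdVal_nat N n)

theorem mbd_gen (n : ℕ) {V : C} (x : V ⟶ N.obj (n + 1)) :
    (mbd N n).app (op V) (mgen R N x) =
      ∑ i : Fin (n + 2), ((-1 : ℤ) ^ (i : ℕ)) • mgen R N (x ≫ N.face n i) :=
  desc_mgen N _ (bdVal_nat N n) x

theorem mgen_ext {n : ℕ} {V : C} {M : ModuleCat.{u + 1} (R.obj (op V))} {a b : (F R N n).obj (op V) ⟶ M}
    (h : ∀ x : V ⟶ N.obj n, a (mgen R N x) = b (mgen R N x)) : a = b :=
  ModuleCat.free_hom_ext fun x => h x.down

theorem exists_mbd_eq (n : ℕ) {V : C} (z : (F R N (n + 1)).obj (op V)) (hz : (mbd N n).app (op V) z = 0) :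
    ∃ w, (mbd N (n + 1)).app (op V) w = z := by
  rcases isEmpty_or_nonempty (V ⟶ W') with h | ⟨⟨a₀⟩⟩
  · have : (𝟙 ((F R N (n + 1)).obj (op V))) = 0 := mgen_ext N fun x => h.elim (x ≫ N.pr _ 0)
    exact ⟨0, by rw [map_zero]; exact (congrArg (fun f => f z) this).symm⟩
  obtain ⟨s, hs, -⟩ := exists_section_choice (π := π) V a₀
  let hm : ∀ m, (F R N m).obj (op V) ⟶ (F R N (m + 1)).obj (op V) := fun m =>
    ModuleCat.freeDesc (↾fun x : ULift.{u + 1} (V ⟶ N.obj m) => mgen R N (prep N s hs m x.down))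
  have hm_gen : ∀ (m : ℕ) (x : V ⟶ N.obj m), hm m (mgen R N x) = mgen R N (prep N s hs m x) := fun m x =>
    ModuleCat.freeDesc_apply _ _
  have e : hm (n + 1) ≫ (mbd N (n + 1)).app (op V) + (mbd N n).app (op V) ≫ hm n = 𝟙 _ := by
    refine mgen_ext N fun x => ?_
    show (mbd N (n + 1)).app (op V) (hm (n + 1) (mgen R N x)) + hm n ((mbd N n).app (op V) (mgen R N x)) = mgen R N x
    rw [hm_gen, mbd_gen, mbd_gen, map_sum, Fin.sum_univ_succ, prep_face_zero]
    simp only [Fin.val_zero, pow_zero, one_smul, Fin.val_succ, map_zsmul, hm_gen, prep_face_succ]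
    rw [add_assoc, ← Finset.sum_add_distrib, Finset.sum_eq_zero, add_zero]
    intro i _
    rw [pow_succ, mul_neg_one, neg_smul, neg_add_cancel]
  refine ⟨hm (n + 1) z, ?_⟩
  have e' := congrArg (fun f => f z) e
  simp only [ModuleCat.hom_add, LinearMap.add_apply, ModuleCat.hom_comp, LinearMap.comp_apply, hz, map_zero, add_zero,
    ModuleCat.hom_id, LinearMap.id_coe, id_eq] at e'
  exact e'

/-- An injective presheaf of modules has exact Čech complexes. -/
theorem hExact_toPresheaf (M : PresheafOfModules.{u + 1} R) [Injective M] (n : ℕ) : HExact N M.presheaf n := by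
  intro x hx
  let P := M.presheaf
  let φ : F R N (n + 1) ⟶ M := desc N (fun V a => (P.map a.op x :)) fun {V V'} g a => by
    rw [← ConcreteCategory.comp_apply, ← Functor.map_comp, ← op_comp]
  have h0 : ∀ (V : C) (z : (F R N (n + 2)).obj (op V)), φ.app (op V) ((mbd N (n + 1)).app (op V) z) = 0 := by
    intro V
    have : (mbd N (n + 1)).app (op V) ≫ φ.app (op V) = 0 := by
      refine mgen_ext N fun a => ?_
      show φ.app (op V) ((mbd N (n + 1)).app (op V) (mgen R N a)) = 0
      rw [mbd_gen, map_sum]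
      refine Eq.trans ?_ ((congrArg (P.map a.op) hx).trans (map_zero (P.map a.op).hom))
      rw [cechD_apply]
      show _ = ((P.map a.op).hom) _
      rw [map_sum]
      refine Finset.sum_congr rfl fun i _ => ?_
      rw [map_zsmul, map_zsmul]
      refine congrArg _ ((desc_mgen N _ _ (a ≫ N.face (n + 1) i)).trans ?_)
      rw [op_comp, Functor.map_comp, ConcreteCategory.comp_apply]
    exact fun z => congrArg (fun f => f z) this
  have h1 : kernel.ι (mbd N n) ≫ φ = 0 := by
    refine PresheafOfModules.hom_ext fun V => ?_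
    ext z
    have hz : (mbd N n).app V ((kernel.ι (mbd (R := R) N n)).app V z) = 0 :=
      congrArg (fun f => f.app V z) (kernel.condition (mbd (R := R) N n))
    obtain ⟨w, hw⟩ := exists_mbd_eq N n (V := V.unop) _ hz
    show φ.app V ((kernel.ι (mbd (R := R) N n)).app V z) = 0
    rw [← hw]
    exact h0 _ w
  let g : Abelian.coimage (mbd (R := R) N n) ⟶ M := cokernel.desc (kernel.ι (mbd N n)) φ h1
  let η : F R N n ⟶ M := Injective.factorThru g (Abelian.factorThruCoimage (mbd N n))
  have hη : mbd N n ≫ η = φ := by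
    refine (congrArg (· ≫ η) (Abelian.coimage.fac (mbd (R := R) N n)).symm).trans ?_
    rw [Category.assoc, Injective.comp_factorThru]
    exact cokernel.π_desc _ _ _
  refine ⟨η.app (op (N.obj n)) (mgen R N (𝟙 _)), ?_⟩
  have e := congrArg (fun f => f.app (op (N.obj (n + 1))) (mgen R N (𝟙 _))) hη
  have e' : φ.app (op (N.obj (n + 1))) (mgen R N (𝟙 _)) = x := by
    refine (desc_mgen N _ _ (𝟙 _)).trans ?_
    rw [op_id, P.map_id]
    rfl
  refine Eq.trans ?_ (e.trans e')
  show cechD N P n _ = η.app _ ((mbd N n).app _ (mgen R N (𝟙 _)))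
  rw [mbd_gen, map_sum, cechD_apply]
  refine Finset.sum_congr rfl fun i _ => ?_
  rw [map_zsmul]
  refine congrArg _ ?_
  refine Eq.trans ?_ (congrArg (η.app (op (N.obj (n + 1))))
    ((map_mgen (R := R) N (N.face n i) (𝟙 _)).trans (by rw [Category.comp_id, Category.id_comp])))
  exact (PresheafOfModules.naturality_apply η (N.face n i).op _).symm

end EtModInjLib
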