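import Groth.Agent.EtModInjLib.CechMod
import Groth.Agent.EtShLib.TorsionCoh
import Mathlib.Algebra.Category.ModuleCat.Presheaf.Sheafification
import Mathlib.Algebra.Category.ModuleCat.Sheaf.Abelian
import Mathlib.Algebra.Category.ModuleCat.Sheaf.Limits
import Mathlib.CategoryTheory.Preadditive.Injective.Preserves

/-! Injective sheaves of modules on the étale site are Čech acyclic. -/

set_option autoImplicit false
set_option linter.style.haveILetI false
set_option backward.isDefEq.respectTransparency false
set_option backward.isDefEq.respectTransparency.types false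
universe u

open CategoryTheory CategoryTheory.Limits AlgebraicGeometry Opposite
open Groth.Agent Groth.Agent.EtShLib

noncomputable section

namespace EtModInjLib

theorem cechAcyclicQ_toSheaf {X : Scheme.{u}} (A : Sheaf X.smallEtaleTopology RingCat.{u + 1})
    (I : SheafOfModules.{u + 1} A) [Injective I] : CechAcyclicQ ((SheafOfModules.toSheaf A).obj I) := by
  let adj := PresheafOfModules.sheafificationAdjunction.{u + 1} (𝟙 A.obj)
  haveI : PreservesFiniteLimits (PresheafOfModules.sheafification.{u + 1} (𝟙 A.obj)) := inferInstance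
  haveI : (PresheafOfModules.sheafification.{u + 1} (𝟙 A.obj)).PreservesMonomorphisms := inferInstance
  haveI : Injective ((SheafOfModules.forget A ⋙ PresheafOfModules.restrictScalars (𝟙 A.obj)).obj I) :=
    Injective.injective_of_adjoint adj I
  intro W' W π _ _ _ n
  exact hExact_toPresheaf (EpsLib.nerveOf π)
    ((SheafOfModules.forget A ⋙ PresheafOfModules.restrictScalars (𝟙 A.obj)).obj I) n

theorem isTorsion_toSheaf {X : Scheme.{u}} (A : Sheaf X.smallEtaleTopology RingCat.{u + 1})
    (hA : ∀ (U : X.Etale) (s : A.val.obj (op U)) (x : U.left), ∃ (V : X.Etale) (g : V ⟶ U),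
      (∃ v : V.left, g.left.base v = x) ∧ IsOfFinAddOrder (A.val.map g.op s))
    (I : SheafOfModules.{u + 1} A) : EtCoh.IsTorsion ((SheafOfModules.toSheaf A).obj I) := by
  intro U s x
  obtain ⟨V, g, hv, h⟩ := hA U 1 x
  refine ⟨V, g, hv, ?_⟩
  obtain ⟨m, hm, h'⟩ := isOfFinAddOrder_iff_nsmul_eq_zero.1 h
  refine isOfFinAddOrder_iff_nsmul_eq_zero.2 ⟨m, hm, ?_⟩
  rw [map_one, nsmul_one] at h'
  show m • (I.val.map g.op s : I.val.obj (op V)) = 0
  rw [← Nat.cast_smul_eq_nsmul (A.obj.obj (op V)), h', zero_smul]

end EtModInjLib
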