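import Groth.Agent.EtModInjLib.Affine
import Groth.Agent.EtModInjLib.Sheaf
import Groth.Agent.EtSliceLib.MV
import Groth.Agent.EtSliceLib.Hpull

/-!
# The bound on the cohomology of a Čech acyclic torsion sheaf restricted to a closed subscheme
-/

set_option autoImplicit false
set_option linter.unusedSectionVars false
set_option linter.style.haveILetI false
set_option backward.isDefEq.respectTransparency false
set_option backward.isDefEq.respectTransparency.types false
set_option maxHeartbeats 1000000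
set_option synthInstance.maxHeartbeats 400000

universe u

open CategoryTheory CategoryTheory.Limits CategoryTheory.Abelian AlgebraicGeometry Opposite
open Groth.Agent Groth.Agent.EtShLib

noncomputable section

namespace EtModInjLib

attribute [local instance] EtSliceLib.pullExact

variable {X Z : Scheme.{u}} (i : Z ⟶ X) (F : EtCoh.Ab X)

/-- The inverse image of an open, as an étale object. -/
abbrev zobj (U : X.Opens) : Z.Etale :=
  MorphismProperty.Over.mk ⊤ (i ⁻¹ᵁ U).ι (inferInstanceAs (AlgebraicGeometry.Etale (i ⁻¹ᵁ U).ι))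

/-- The transition maps. -/
abbrev zmap {U V : X.Opens} (h : U ≤ V) : zobj i U ⟶ zobj i V :=
  MorphismProperty.Over.homMk (Z.homOfLE (Scheme.Hom.preimage_mono i h)) (Z.homOfLE_ι _)

variable [IsClosedImmersion i]

theorem subsingleton_ext_affine (hF : CechAcyclicQ F) (hT : EtCoh.IsTorsion F) {U : X.Opens} (hU : IsAffineOpen U)
    (q : ℕ) : Subsingleton (Ext.{u + 1} (EtSliceLib.free (zobj i U)) ((EtCoh.pull i).obj F) (q + 1)) := by
  let j : (i ⁻¹ᵁ U : Scheme.{u}) ⟶ Spec Γ(X, U) := (i ∣_ U) ≫ hU.isoSpec.hom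
  haveI : IsClosedImmersion (i ∣_ U) := IsZariskiLocalAtTarget.restrict ‹IsClosedImmersion i› U
  haveI hj : IsClosedImmersion j := inferInstanceAs (IsClosedImmersion ((i ∣_ U) ≫ hU.isoSpec.hom))
  obtain ⟨I, e, he⟩ := (IsClosedImmersion.Spec_iff (f := j)).1 hj
  haveI : AlgebraicGeometry.Etale hU.fromSpec := inferInstance
  have h := subsingleton_H_closed (A := Γ(X, U)) hU.fromSpec F hF hT I q
  have hcomp : e.hom ≫ Spec.map (CommRingCat.ofHom (Ideal.Quotient.mk I)) ≫ hU.fromSpec = (i ⁻¹ᵁ U).ι ≫ i := by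
    rw [← Category.assoc, ← he]
    show ((i ∣_ U) ≫ hU.isoSpec.hom) ≫ hU.fromSpec = _
    rw [Category.assoc, show hU.isoSpec.hom ≫ hU.fromSpec = U.ι from (Iso.eq_inv_comp _).1 hU.isoSpec_inv_ι.symm,
      morphismRestrict_ι]
  let G' := (EtCoh.pull (Spec.map (CommRingCat.ofHom (Ideal.Quotient.mk I)) ≫ hU.fromSpec)).obj F
  have h1 : Subsingleton (EtCoh.H (i ⁻¹ᵁ U : Scheme.{u}) ((EtCoh.pull e.hom).obj G') (q + 1)) :=
    haveI : Subsingleton (EtCoh.H (Spec (CommRingCat.of (Γ(X, U) ⧸ I))) G' (q + 1)) := h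
    (Groth.Agent.S0642.result e.hom G' (q + 1)).2.subsingleton
  let iso : (EtCoh.pull e.hom).obj G' ≅ (EtCoh.pull (zobj i U).hom).obj ((EtCoh.pull i).obj F) :=
    ((EtCore.pullComp e.hom (Spec.map (CommRingCat.ofHom (Ideal.Quotient.mk I)) ≫ hU.fromSpec)).app F).symm ≪≫
      (EtCore.pullCongr hcomp).app F ≪≫ (EtCore.pullComp (i ⁻¹ᵁ U).ι i).app F
  have h2 := subsingleton_H_of_sheafIso iso (q + 1) h1
  exact ⟨fun a b => (EtSliceLib.psi_bijective (zobj i U) (q + 1) _).1 (h2.allEq _ _)⟩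

theorem subsingleton_ext_cover (hΔ : ∀ U V : X.Opens, IsAffineOpen U → IsAffineOpen V → IsAffineOpen (U ⊓ V))
    (hF : CechAcyclicQ F) (hT : EtCoh.IsTorsion F) :
    ∀ (n : ℕ) (W : Fin (n + 1) → X.Opens), (∀ k, IsAffineOpen (W k)) → ∀ U : X.Opens, ⨆ k, W k = U →
      ∀ q, n < q → Subsingleton (Ext.{u + 1} (EtSliceLib.free (zobj i U)) ((EtCoh.pull i).obj F) q)
  | 0, W, hW, U, hU, q, hq => by
    have hU0 : W 0 = U := by
      rw [← hU]
      exact le_antisymm (le_iSup W 0) (iSup_le fun k => by rw [Fin.fin_one_eq_zero k])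
    obtain ⟨p, rfl⟩ : ∃ p, q = p + 1 := ⟨q - 1, by omega⟩
    exact subsingleton_ext_affine i F hF hT (hU0 ▸ hW 0) p
  | n + 1, W, hW, U, hU, q, hq => by
    obtain ⟨p, rfl⟩ : ∃ p, q = p + 1 := ⟨q - 1, by omega⟩
    let A := W 0
    let B : X.Opens := ⨆ k : Fin (n + 1), W k.succ
    have hAB : A ⊔ B = U := by
      rw [← hU]
      refine le_antisymm (sup_le (le_iSup W 0) (iSup_le fun k => le_iSup W k.succ)) (iSup_le fun k => ?_)
      induction k using Fin.cases with
      | zero => exact le_sup_left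
      | succ k => exact le_sup_of_le_right (le_iSup (fun k : Fin (n + 1) => W k.succ) k)
    have hA : A ≤ U := hAB ▸ le_sup_left
    have hB : B ≤ U := hAB ▸ le_sup_right
    let a := zmap i hA
    let b := zmap i hB
    let c₁ := zmap i (inf_le_left : A ⊓ B ≤ A)
    let c₂ := zmap i (inf_le_right : A ⊓ B ≤ B)
    have w : c₁ ≫ a = c₂ ≫ b := MorphismProperty.Over.Hom.ext (by
      refine Eq.trans (Scheme.homOfLE_homOfLE Z (Scheme.Hom.preimage_mono i inf_le_left) (Scheme.Hom.preimage_mono i hA))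
        (Eq.symm (Scheme.homOfLE_homOfLE Z (Scheme.Hom.preimage_mono i inf_le_right) (Scheme.Hom.preimage_mono i hB))))
    haveI : IsOpenImmersion c₁.left :=
      inferInstanceAs (IsOpenImmersion (Z.homOfLE (Scheme.Hom.preimage_mono i (inf_le_left : A ⊓ B ≤ A))))
    haveI : IsOpenImmersion a.left := inferInstanceAs (IsOpenImmersion (Z.homOfLE (Scheme.Hom.preimage_mono i hA)))
    haveI : IsOpenImmersion b.left := inferInstanceAs (IsOpenImmersion (Z.homOfLE (Scheme.Hom.preimage_mono i hB)))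
    have hmem : ∀ {P Q : Z.Opens} (h : P ≤ Q) (z : (P : Scheme.{u})), Q.ι.base ((Z.homOfLE h).base z) = P.ι.base z := by
      intro P Q h z
      rw [← Scheme.Hom.comp_apply, Z.homOfLE_ι]
    have hr : ∀ {P Q : Z.Opens} (h : P ≤ Q) (z : (Q : Scheme.{u})), Q.ι.base z ∈ P →
        z ∈ Set.range (Z.homOfLE h).base := by
      intro P Q h z hz
      exact ⟨⟨Q.ι.base z, hz⟩, Q.ι.isOpenEmbedding.injective (hmem h ⟨Q.ι.base z, hz⟩)⟩
    have hcov : Set.range a.left.base ∪ Set.range b.left.base = Set.univ := by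
      refine Set.eq_univ_of_forall fun z => ?_
      have hz : i.base ((i ⁻¹ᵁ U).ι.base z) ∈ A ⊔ B := hAB.symm ▸ Subtype.prop (p := fun y => y ∈ i ⁻¹ᵁ U) z
      rcases hz with hz | hz
      · exact Or.inl (hr (Scheme.Hom.preimage_mono i hA) z hz)
      · exact Or.inr (hr (Scheme.Hom.preimage_mono i hB) z hz)
    have hint : Set.range a.left.base ∩ Set.range b.left.base ⊆ Set.range (c₁ ≫ a).left.base := by
      rintro z ⟨⟨x, rfl⟩, y, hy⟩
      have e : (i ⁻¹ᵁ B).ι.base y = (i ⁻¹ᵁ A).ι.base x := by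
        rw [← hmem (Scheme.Hom.preimage_mono i hB) y, ← hmem (Scheme.Hom.preimage_mono i hA) x]
        exact congrArg (i ⁻¹ᵁ U).ι.base hy
      obtain ⟨t, ht⟩ := hr (Scheme.Hom.preimage_mono i (inf_le_left : A ⊓ B ≤ A)) x
        ⟨Subtype.prop (p := fun y => y ∈ i ⁻¹ᵁ A) x, e ▸ Subtype.prop (p := fun y => y ∈ i ⁻¹ᵁ B) y⟩
      exact ⟨t, congrArg a.left.base ht⟩
    have hS := EtSliceLib.mvFree_shortExact c₁ c₂ a b w hcov hint
    let G := (EtCoh.pull i).obj F
    haveI hsA : Subsingleton (Ext.{u + 1} (EtSliceLib.free (zobj i A)) G (p + 1)) :=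
      subsingleton_ext_affine i F hF hT (hW 0) p
    haveI hsB : Subsingleton (Ext.{u + 1} (EtSliceLib.free (zobj i B)) G (p + 1)) :=
      subsingleton_ext_cover hΔ hF hT n (fun k => W k.succ) (fun k => hW k.succ) B rfl (p + 1) (by omega)
    haveI hsC : Subsingleton (Ext.{u + 1} (EtSliceLib.free (zobj i (A ⊓ B))) G p) :=
      subsingleton_ext_cover hΔ hF hT n (fun k => A ⊓ W k.succ) (fun k => hΔ _ _ (hW 0) (hW k.succ)) (A ⊓ B)
        (inf_iSup_eq A _).symm p (by omega)
    refine ⟨fun x y => ?_⟩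
    suffices h : ∀ x : Ext.{u + 1} (EtSliceLib.free (zobj i U)) G (p + 1), x = 0 from (h x).trans (h y).symm
    intro x
    have h₂ : (Ext.mk₀ (EtSliceLib.mvFree c₁ c₂ a b w).g).comp x (zero_add (p + 1)) = 0 := by
      apply Ext.biprodAddEquiv.injective
      exact Prod.ext (Subsingleton.elim _ _) (Subsingleton.elim _ _)
    obtain ⟨z, hz⟩ := Ext.contravariant_sequence_exact₃ hS G x h₂ (n₀ := p) (by omega)
    rw [← hz, show z = 0 from Subsingleton.elim (α := Ext.{u + 1} (EtSliceLib.free (zobj i (A ⊓ B))) G p) _ _,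
      Ext.comp_zero]

/-- The bound for a scheme covered by `n + 1` affine opens with affine intersections. -/
theorem subsingleton_H_pull (hΔ : ∀ U V : X.Opens, IsAffineOpen U → IsAffineOpen V → IsAffineOpen (U ⊓ V))
    (hF : CechAcyclicQ F) (hT : EtCoh.IsTorsion F) {n : ℕ} (W : Fin (n + 1) → X.Opens) (hW : ∀ k, IsAffineOpen (W k))
    (hcov : ⨆ k, W k = ⊤) {q : ℕ} (hq : n < q) : Subsingleton (EtCoh.H Z ((EtCoh.pull i).obj F) q) := by
  have h := subsingleton_ext_cover i F hΔ hF hT n W hW ⊤ hcov q hq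
  let G := (EtCoh.pull i).obj F
  have h1 : Subsingleton (EtCoh.H (zobj i ⊤).left ((EtCoh.pull (zobj i ⊤).hom).obj G) q) :=
    haveI := h; (EtSliceLib.psi_bijective (zobj i ⊤) q G).2.subsingleton
  haveI : Epi (i ⁻¹ᵁ ⊤).ι.base := (TopCat.epi_iff_surjective _).2 fun z => ⟨⟨z, trivial⟩, rfl⟩
  haveI : IsIso (zobj i ⊤).hom := IsOpenImmersion.isIso (i ⁻¹ᵁ ⊤).ι
  exact @Function.Injective.subsingleton _ _ _ (Groth.Agent.S0642.result (zobj i ⊤).hom G q).1 h1

end EtModInjLib
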