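import Groth.Agent.IndEtQuotLib.Basic
import Groth.Agent.PairHensLib.Nbhd
import Mathlib.Algebra.Category.Ring.FilteredColimits
import Mathlib.Algebra.Category.Ring.Colimits

/-! A henselization of a pair is the colimit of the étale algebras mapping to it. -/

set_option autoImplicit false
set_option linter.style.haveILetI false
set_option backward.isDefEq.respectTransparency false
set_option backward.defeqAttrib.useBackward true
universe u

open CategoryTheory CategoryTheory.Limits

noncomputable section

namespace EtModInjLib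

open HenselBranchLib

variable {A : Type u} [CommRing A] {I : Ideal A} {B : Type u} [CommRing B] [Algebra A B]

variable (A B) in
/-- The diagram of étale algebras over `B`. -/
def etDiag : EtObj A B ⥤ CommRingCat.{u} where
  obj j := CommRingCat.of j.U
  map f := CommRingCat.ofHom f.1.toRingHom

variable (A B) in
/-- The cocone with vertex `B`. -/
def etCocone : Cocone (etDiag A B) :=
  ⟨CommRingCat.of B, { app := fun j => CommRingCat.ofHom j.hom.toRingHom
                       naturality := fun i j f => by ext x; exact AlgHom.congr_fun f.2 x }⟩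

theorem exists_etColimit (hB : Hens2.IsPairHenselization A I B) : Nonempty (IsColimit (etCocone A B)) := by
  haveI := Groth.Agent.IndEtQuotLib.isFiltered_etObj (A := A) (Cb := B)
  have hc := colimit.isColimit (etDiag A B)
  let Φ := colimit.desc (etDiag A B) (etCocone A B)
  have hΦ : ∀ j (x : j.U), Φ.hom ((colimit.ι (etDiag A B) j).hom x) = j.hom x := fun j x =>
    ConcreteCategory.congr_hom (colimit.ι_desc (etCocone A B) j) x
  have hbij : Function.Bijective Φ := by
    refine ⟨(injective_iff_map_eq_zero Φ.hom).2 fun z hz => ?_, fun y => ?_⟩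
    · obtain ⟨i, x, rfl⟩ := Concrete.colimit_exists_rep (etDiag A B) z
      change i.U at x
      have hx : i.hom x = 0 := (hΦ i x).symm.trans hz
      obtain ⟨U, _, _, _, ι, ξ, hb, hι⟩ := PairHensLib.exists_shrink hB i.hom
      have hs : ξ (ι x) = 0 := (AlgHom.congr_fun hι x).trans hx
      obtain ⟨U', _, _, _, hb', ψ, hψ⟩ := PairHensLib.exists_nbhd_kernel hB hb ξ hs
      haveI := hB.1
      obtain ⟨ξ', -, -⟩ := PairHensLib.existsUnique_algHom_of_etaleNbhd (C := B) hb' (le_refl (I.map (algebraMap A B)))
      obtain ⟨τ, -, huniq⟩ := PairHensLib.existsUnique_algHom_of_etaleNbhd (C := B) hb (le_refl (I.map (algebraMap A B)))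
      have hξ : ξ'.comp ψ = ξ := (huniq _ trivial).trans (huniq ξ trivial).symm
      obtain ⟨k, e, he⟩ := exists_obj ξ'
      let f : i ⟶ k := ⟨e.toAlgHom.comp (ψ.comp ι), by
        rw [← AlgHom.comp_assoc, he, ← AlgHom.comp_assoc, hξ, hι]⟩
      show (colimit.ι (etDiag A B) i).hom x = 0
      rw [← colimit.w (etDiag A B) f]
      show (colimit.ι (etDiag A B) k).hom (e (ψ (ι x))) = 0
      rw [hψ, map_zero, map_zero]
    · obtain ⟨U, _, _, _, ξ, -, hy⟩ := PairHensLib.exists_nbhd hB {y}
      obtain ⟨u, hu⟩ := hy y (Finset.mem_singleton_self y)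
      obtain ⟨k, e, he⟩ := exists_obj ξ
      exact ⟨(colimit.ι (etDiag A B) k).hom (e u), (hΦ k _).trans ((AlgHom.congr_fun he u).trans hu)⟩
  haveI : IsIso Φ := (ConcreteCategory.isIso_iff_bijective Φ).2 hbij
  have hd : hc.desc (etCocone A B) = Φ :=
    colimit.hom_ext fun j => (hc.fac (etCocone A B) j).trans (colimit.ι_desc (etCocone A B) j).symm
  haveI : IsIso (hc.desc (etCocone A B)) := by rw [hd]; infer_instance
  exact ⟨IsColimit.ofPointIso hc⟩

end EtModInjLib
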